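import Cfsg.Agent.H206.Conj.CCW
import Cfsg.Agent.H129.CycT2
import Cfsg.Agent.H56.Exc.ToriAll
import Cfsg.Agent.H514.DP.Core
import Cfsg.Agent.H681.SimpleChar
import Cfsg.Agent.S2342
import Cfsg.Agent.S1071

/-!
# The conjugation character of `³D₄(q)` (helper206, S4792)

The torus of order `t = q⁴ - q² + 1` is a CC-subgroup, its normaliser has order dividing `4 t`, the nontrivial irreducible
characters have degree at least `q t`.
-/

set_option autoImplicit false

open Cfsg Cfsg.Lie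

namespace Cfsg.Agent.H206.Conj

open Cfsg.Agent.H430.Conj Cfsg.Agent.H56.Exc Cfsg.Agent.H129

universe u

theorem row_twD4 {K : Type u} [Field K] [Fintype K] {q : ℕ} (hq : IsPrimePow q) (hK : Fintype.card K = q ^ 3) :
    Row ↥(twistedD4 K q) := by
  obtain ⟨hs, hna⟩ := S1071.result hq hK
  have := hs
  have h2 : 2 ≤ q := hq.two_le
  obtain ⟨T, hT, hTc, hcc⟩ := CycT.exact_tD4_12 hq hK (cast_m_TD4_12 h2)
  obtain ⟨r, hr⟩ := H436.exists_prim (e := 12) h2 (by norm_num) (by omega)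
  have hbig := big_TD4_12 hq hK (cast_m_TD4_12 h2) hr
  have hrf : Fact r.Prime := ⟨hr.prime⟩
  have hrt : r ∣ m_TD4_12 q := by
    rw [← Int.natCast_dvd_natCast, cast_m_TD4_12 h2]
    exact prim_dvd_12 hr
  -- the numbers
  have ht : m_TD4_12 q = q ^ 4 - q ^ 2 + 1 := by
    have h1 : q ^ 2 ≤ q ^ 4 := Nat.pow_le_pow_right (by omega) (by norm_num)
    have h3 := cast_m_TD4_12 h2
    zify [h1]
    rw [h3]
    ring
  set t := m_TD4_12 q with htdef
  have ht13 : 13 ≤ t := by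
    have h1 : t = q ^ 2 * (q ^ 2 - 1) + 1 := by
      have h1 : 1 ≤ q ^ 2 := Nat.one_le_pow _ _ (by omega)
      have h3 := cast_m_TD4_12 h2
      zify [h1]
      rw [← htdef] at h3
      rw [h3]
      ring
    have h3 : 4 ≤ q ^ 2 := by nlinarith
    have h5 : 4 * 3 ≤ q ^ 2 * (q ^ 2 - 1) := Nat.mul_le_mul h3 (by omega)
    omega
  -- an element of order `r`
  obtain ⟨⟨x, hxT⟩, hx⟩ := exists_prime_orderOf_dvd_card' (G := T) r (by rw [hTc]; exact hrt)
  rw [Subgroup.orderOf_mk] at hx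
  -- the normaliser
  have hN : Subgroup.normalizer (T : Set ↥(twistedD4 K q)) ≤ Subgroup.normalizer (Subgroup.zpowers x : Set ↥(twistedD4 K q)) := by
    have key : ∀ n ∈ Subgroup.normalizer (T : Set ↥(twistedD4 K q)), n * x * n⁻¹ ∈ Subgroup.zpowers x := by
      intro n hn
      have h1 : n * x * n⁻¹ ∈ T := (Subgroup.mem_normalizer_iff.1 hn x).1 hxT
      refine mem_zpowers_of_cyclic hT hxT h1 ?_
      have h3 : orderOf (n * x * n⁻¹) = orderOf x := orderOf_injective (MulAut.conj n).toMonoidHom (MulAut.conj n).injective x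
      rw [h3]
    intro n hn
    rw [Subgroup.mem_normalizer_iff]
    have key2 : ∀ n ∈ Subgroup.normalizer (T : Set ↥(twistedD4 K q)), ∀ h ∈ Subgroup.zpowers x, n * h * n⁻¹ ∈ Subgroup.zpowers x := by
      rintro n hn _ ⟨k, rfl⟩
      have h1 : n * x ^ k * n⁻¹ = (n * x * n⁻¹) ^ k := by rw [conj_zpow]
      simp only [h1]
      exact Subgroup.zpow_mem _ (key n hn) k
    intro h
    constructor
    · exact key2 n hn h
    · intro h1
      have h3 := key2 n⁻¹ (inv_mem hn) _ h1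
      have e : n⁻¹ * (n * h * n⁻¹) * n⁻¹⁻¹ = h := by group
      rwa [e] at h3
  have hNc := (Subgroup.card_dvd_of_le hN).trans (hbig.card_normalizer_dvd hx)
  obtain ⟨w, hw⟩ := Subgroup.card_dvd_of_le (Subgroup.le_normalizer (H := T))
  rw [hTc, mul_comm] at hw
  have hw4 : w ∣ 4 := by
    rw [hw] at hNc
    exact Nat.dvd_of_mul_dvd_mul_right (by omega) hNc
  have hwle : w ≤ 4 := Nat.le_of_dvd (by norm_num) hw4
  have hcc' : ∀ c ∈ T, c ≠ 1 → Subgroup.centralizer {c} = T := hcc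
  refine row_of_ccw (C := T) ?_ hcc' (w := 4) (by rw [hw, hTc]; exact Nat.mul_le_mul_right _ hwle) ?_
  · rintro rfl
    rw [Subgroup.card_bot] at hTc
    omega
  · intro χ d hχ h1 hd
    have hna' : ¬ ∀ a b : ↥(twistedD4 K q), a * b = b * a := fun h => hna ⟨⟨h⟩⟩
    have hd1 : χ 1 ≠ 1 := fun h => h1 (H681.SimpleChar.eq_one_of_degree_one hna' hχ h)
    have hmd : H514.DP.MinDeg ↥(twistedD4 K q) (q * (q ^ 4 - q ^ 2 + 1)) := S2342.result q hq hK
    obtain ⟨n, hn, -, hn1⟩ := hmd.le hχ hd1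
    have hnd : n = d := by
      rw [hd] at hn1
      exact_mod_cast hn1.symm
    subst hnd
    rw [← ht] at hn
    rw [hTc]
    have h2t : 2 * t ≤ n := (Nat.mul_le_mul_right t h2).trans hn
    calc 4 * t * (t - 1) ≤ 4 * t * t := Nat.mul_le_mul_left _ (Nat.sub_le _ _)
      _ = (2 * t) ^ 2 := by ring
      _ ≤ n ^ 2 := Nat.pow_le_pow_left h2t 2

/-- **The row of `³D₄(q)`**. -/
theorem row_td4 {S : Type u} [Group S] (h : Lie.Iso3D4 S) : Row S := by
  obtain ⟨K, _, _, q, hq, hK, ⟨e⟩⟩ := h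
  exact Row.of_equiv e.symm (row_twD4 hq hK)

end Cfsg.Agent.H206.Conj
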